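import Groth.Agent.SigmaLin.Basic

set_option autoImplicit false
universe u v

namespace Groth.Agent.SigmaLin

open IsLocalRing

variable {R : Type u} [CommRing R] [IsLocalRing R] {σ : R →+* R}
variable {M : Type v} [AddCommGroup M] [Module R M]

noncomputable scoped instance redModule : Module (ResidueField R) (M ⧸ maximalIdeal R • (⊤ : Submodule R M)) :=
  inferInstanceAs (Module (R ⧸ maximalIdeal R) (M ⧸ maximalIdeal R • (⊤ : Submodule R M)))

scoped instance redTower : IsScalarTower R (ResidueField R) (M ⧸ maximalIdeal R • (⊤ : Submodule R M)) :=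
  IsScalarTower.of_algebraMap_smul fun r x => by
    obtain ⟨m, rfl⟩ := Submodule.mkQ_surjective _ x
    rfl

theorem map_mem_maximalIdeal {p : ℕ} (hmax : maximalIdeal R = Ideal.span {(p : R)}) {r : R}
    (hr : r ∈ maximalIdeal R) : σ r ∈ maximalIdeal R := by
  rw [hmax, Ideal.mem_span_singleton] at hr ⊢
  obtain ⟨s, rfl⟩ := hr
  exact ⟨σ s, by rw [map_mul, map_natCast]⟩

theorem smul_top_le_comap {p : ℕ} (hmax : maximalIdeal R = Ideal.span {(p : R)}) (T : M →ₛₗ[σ] M) :
    maximalIdeal R • (⊤ : Submodule R M) ≤ (maximalIdeal R • (⊤ : Submodule R M)).comap T := by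
  rw [Submodule.smul_le]
  intro r hr m _
  rw [Submodule.mem_comap, map_smulₛₗ]
  exact Submodule.smul_mem_smul (map_mem_maximalIdeal hmax hr) trivial

theorem mem_smul_top_iff {p : ℕ} (hmax : maximalIdeal R = Ideal.span {(p : R)}) {m : M} :
    m ∈ maximalIdeal R • (⊤ : Submodule R M) ↔ ∃ x : M, (p : R) • x = m := by
  rw [hmax, Submodule.ideal_span_singleton_smul]
  exact ⟨fun ⟨x, _, hx⟩ => ⟨x, hx⟩, fun ⟨x, hx⟩ => ⟨x, trivial, hx⟩⟩

/-- the reduction of a semilinear map modulo the maximal ideal -/
noncomputable def red {p : ℕ} (hmax : maximalIdeal R = Ideal.span {(p : R)}) (σbar : ResidueField R →+* ResidueField R)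
    (hσbar : ∀ r : R, σbar (residue R r) = residue R (σ r)) (T : M →ₛₗ[σ] M) :
    (M ⧸ maximalIdeal R • (⊤ : Submodule R M)) →ₛₗ[σbar] (M ⧸ maximalIdeal R • (⊤ : Submodule R M)) :=
  { toFun := Submodule.mapQ _ _ T (smul_top_le_comap hmax T)
    map_add' := fun x y => map_add _ x y
    map_smul' := fun c x => by
      obtain ⟨r, rfl⟩ := residue_surjective c
      obtain ⟨m, rfl⟩ := Submodule.mkQ_surjective _ x
      rw [hσbar]
      show Submodule.Quotient.mk (T (r • m)) = Submodule.Quotient.mk (σ r • T m)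
      rw [map_smulₛₗ] }

variable [Module.Finite R M]

theorem surjective_sub_local {p : ℕ} (hmax : maximalIdeal R = Ideal.span {(p : R)}) (n : ℕ)
    (hn : (p : R) ^ n = 0) (σbar : ResidueField R →+* ResidueField R)
    (hσbar : ∀ r : R, σbar (residue R r) = residue R (σ r))
    (hsurj : Function.Surjective σbar) (h2 : HypSol σbar) (h3 : HypAS σbar) (T : M →ₛₗ[σ] M) :
    Function.Surjective (fun m : M => m - T m) := by
  haveI : Module.Finite (ResidueField R) (M ⧸ maximalIdeal R • (⊤ : Submodule R M)) :=
    Module.Finite.of_restrictScalars_finite R _ _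
  have hs := (surjective_sub_and_fixed_basis (red hmax σbar hσbar T) hsurj h2 h3).1
  have step : ∀ m : M, ∃ a m' : M, m = (a - T a) + (p : R) • m' := fun m => by
    obtain ⟨q, hq⟩ := hs (Submodule.Quotient.mk m)
    obtain ⟨a, rfl⟩ := Submodule.mkQ_surjective _ q
    obtain ⟨x, hx⟩ := (mem_smul_top_iff hmax).1
      ((Submodule.Quotient.eq (maximalIdeal R • (⊤ : Submodule R M))).1
        (show Submodule.Quotient.mk m = Submodule.Quotient.mk (a - T a) from hq.symm))
    exact ⟨a, x, by rw [hx]; abel⟩
  have main : ∀ j, ∀ m : M, ∃ a m' : M, m = (a - T a) + (p : R) ^ j • m' := by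
    intro j
    induction j with
    | zero => exact fun m => ⟨0, m, by simp⟩
    | succ j ih =>
      intro m
      obtain ⟨a, m', rfl⟩ := ih m
      obtain ⟨b, m'', rfl⟩ := step m'
      refine ⟨a + (p : R) ^ j • b, m'', ?_⟩
      rw [map_add, map_smulₛₗ, map_pow, map_natCast, pow_succ, mul_smul]
      module
  intro m
  obtain ⟨a, m', rfl⟩ := main n m
  exact ⟨a, by rw [hn, zero_smul, add_zero]⟩

theorem exists_fixed_generators {p : ℕ} (hmax : maximalIdeal R = Ideal.span {(p : R)}) (n : ℕ)
    (hn : (p : R) ^ n = 0) (σbar : ResidueField R →+* ResidueField R)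
    (hσbar : ∀ r : R, σbar (residue R r) = residue R (σ r))
    (hsurj : Function.Surjective σbar) (h2 : HypSol σbar) (h3 : HypAS σbar) (T : M →ₛₗ[σ] M)
    (hlift : ∀ x : ResidueField R, σbar x = x → ∃ r : R, σ r = r ∧ residue R r = x) :
    ∃ s : Finset M, (∀ m ∈ s, T m = m) ∧
      ∀ m : M, T m = m → ∃ c : M → R, (∀ x ∈ s, σ (c x) = c x) ∧ m = ∑ x ∈ s, c x • x := by
  classical
  -- one step, relative to `p ^ j • M`
  suffices H : ∀ j, ∃ s : Finset M, (∀ m ∈ s, T m = m) ∧ ∀ m : M, T m = m →
      ∃ (c : M → R) (m' : M), (∀ x ∈ s, σ (c x) = c x) ∧ m = (∑ x ∈ s, c x • x) + (p : R) ^ j • m' by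
    obtain ⟨s, hs, h⟩ := H n
    refine ⟨s, hs, fun m hm => ?_⟩
    obtain ⟨c, m', hc, hm'⟩ := h m hm
    exact ⟨c, hc, by rw [hn, zero_smul, add_zero] at hm'; exact hm'⟩
  intro j
  induction j with
  | zero => exact ⟨∅, by simp, fun m _ => ⟨0, m, by simp, by simp⟩⟩
  | succ j ih =>
    obtain ⟨s, hs, h⟩ := ih
    let N : Submodule R M := LinearMap.range (((p : R) ^ j) • LinearMap.id)
    have hTN : ∀ x ∈ N, T x ∈ N := by
      rintro _ ⟨y, rfl⟩
      exact ⟨T y, by simp [map_smulₛₗ, map_pow, map_natCast]⟩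
    have : Module.Finite R N := Module.Finite.range _
    let TN : N →ₛₗ[σ] N :=
      { toFun := fun x => ⟨T x, hTN x x.2⟩
        map_add' := fun x y => Subtype.ext (map_add T (x : M) y)
        map_smul' := fun c x => Subtype.ext (map_smulₛₗ T c (x : M)) }
    haveI : Module.Finite (ResidueField R) (N ⧸ maximalIdeal R • (⊤ : Submodule R N)) :=
      Module.Finite.of_restrictScalars_finite R _ _
    let Tq := red hmax σbar hσbar TN
    obtain ⟨-, b, hb⟩ := surjective_sub_and_fixed_basis Tq hsurj h2 h3
    -- lift the fixed basis to fixed vectors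
    have hl : ∀ i, ∃ f : N, TN f = f ∧ Submodule.Quotient.mk f = (b i : N ⧸ maximalIdeal R • (⊤ : Submodule R N)) := by
      intro i
      obtain ⟨g, hg⟩ := Submodule.mkQ_surjective _ (b i : N ⧸ maximalIdeal R • (⊤ : Submodule R N))
      have h0 := hb i
      rw [← hg] at h0
      obtain ⟨x, hx⟩ := (mem_smul_top_iff hmax).1
        ((Submodule.Quotient.eq (maximalIdeal R • (⊤ : Submodule R N))).1
          (show Submodule.Quotient.mk (TN g) = Submodule.Quotient.mk g from h0))
      obtain ⟨a, ha⟩ := surjective_sub_local hmax n hn σbar hσbar hsurj h2 h3 TN x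
      simp only at ha
      refine ⟨g + (p : R) • a, ?_, ?_⟩
      · rw [map_add, map_smulₛₗ, map_natCast]
        rw [← ha, smul_sub] at hx
        linear_combination (norm := abel) hx.symm
      · rw [← hg]
        exact (Submodule.Quotient.eq _).2 (by rw [add_sub_cancel_left]; exact (mem_smul_top_iff hmax).2 ⟨a, rfl⟩)
    choose f hf hfb using hl
    let s' : Finset M := Finset.univ.image fun i => ((f i : N) : M)
    have hfix : ∀ x ∈ s', T x = x := by
      intro x hx
      obtain ⟨i, -, rfl⟩ := Finset.mem_image.1 hx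
      exact congrArg Subtype.val (hf i)
    refine ⟨s ∪ s', fun m hm => ?_, fun m hm => ?_⟩
    · rcases Finset.mem_union.1 hm with h | h
      · exact hs m h
      · exact hfix m h
    obtain ⟨c, m', hc, rfl⟩ := h m hm
    have hy : T ((p : R) ^ j • m') = (p : R) ^ j • m' := by
      have e : T (∑ x ∈ s, c x • x) = ∑ x ∈ s, c x • x := by
        rw [map_sum]
        exact Finset.sum_congr rfl fun x hx => by rw [map_smulₛₗ, hc x hx, hs x hx]
      rwa [map_add, e, add_right_inj] at hm
    let y : N := ⟨(p : R) ^ j • m', m', rfl⟩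
    have hyq : Tq (Submodule.Quotient.mk y) = Submodule.Quotient.mk y :=
      congrArg Submodule.Quotient.mk (Subtype.ext hy : TN y = y)
    have hit : ∀ i, (⇑Tq)^[i] (Submodule.Quotient.mk y) = Submodule.Quotient.mk y := fun i => by
      induction i with
      | zero => rfl
      | succ i ih => rw [Function.iterate_succ_apply', ih, hyq]
    have hmem : (Submodule.Quotient.mk y : N ⧸ maximalIdeal R • (⊤ : Submodule R N)) ∈ ssPart Tq := by
      rw [ssPart, Submodule.mem_iInf]
      exact fun i => Submodule.subset_span ⟨_, hit i⟩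
    set r := b.repr ⟨_, hmem⟩ with hr
    have hr1 : (∑ i, r i • (b i : N ⧸ maximalIdeal R • (⊤ : Submodule R N))) = Submodule.Quotient.mk y := by
      have := congrArg Subtype.val (b.sum_repr ⟨_, hmem⟩)
      simp only [AddSubmonoidClass.coe_finsetSum, Submodule.coe_smul] at this
      exact this
    have hr2 : ∀ i, σbar (r i) = r i := by
      have h' := congrArg Tq hr1
      rw [map_sum, hyq, ← hr1] at h'
      simp only [map_smulₛₗ, hb] at h'
      have h'' : (∑ i, σbar (r i) • b i) = ∑ i, r i • b i := Subtype.ext (by simpa using h')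
      have h4 := congrArg b.repr h''
      intro i
      simpa [Finsupp.single_apply] using DFunLike.congr_fun h4 i
    choose g hg hg' using fun i => hlift (r i) (hr2 i)
    obtain ⟨z, hz⟩ := (mem_smul_top_iff hmax).1
      ((Submodule.Quotient.eq (maximalIdeal R • (⊤ : Submodule R N))).1
        (show Submodule.Quotient.mk y = Submodule.Quotient.mk (∑ i, g i • f i) from by
          rw [← hr1, ← Submodule.mkQ_apply, map_sum]
          refine Finset.sum_congr rfl fun i _ => ?_
          rw [map_smul, Submodule.mkQ_apply, hfb, ← hg']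
          rfl))
    obtain ⟨w, hw⟩ := z.2
    let d : M → R := fun x => (if x ∈ s then c x else 0) +
      ∑ i ∈ Finset.univ.filter (fun i => ((f i : N) : M) = x), g i
    refine ⟨d, w, fun x _ => ?_, ?_⟩
    · simp only [d, map_add, map_sum, hg]
      congr 1
      split
      · exact hc x ‹_›
      · simp
    · have hz' := congrArg Subtype.val hz
      simp only [Submodule.coe_smul, Submodule.coe_sub, ← hw, AddSubmonoidClass.coe_finsetSum, y,
        LinearMap.smul_apply, LinearMap.id_coe, id] at hz'
      have e1 : ∑ x ∈ s ∪ s', (if x ∈ s then c x else 0) • x = ∑ x ∈ s, c x • x := by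
        simp [ite_smul, Finset.sum_ite_mem]
      have e2 : ∑ x ∈ s ∪ s', (∑ i ∈ Finset.univ.filter (fun i => ((f i : N) : M) = x), g i) • x =
          ∑ i, g i • ((f i : N) : M) := by
        rw [← Finset.sum_fiberwise_of_maps_to (t := s ∪ s') (g := fun i => ((f i : N) : M))
          (fun i _ => Finset.mem_union_right _ (Finset.mem_image_of_mem _ (Finset.mem_univ i)))]
        refine Finset.sum_congr rfl fun x _ => ?_
        rw [Finset.sum_smul]
        exact Finset.sum_congr rfl fun i hi => by rw [(Finset.mem_filter.1 hi).2]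
      simp only [d, add_smul, Finset.sum_add_distrib, e1, e2, pow_succ', mul_smul]
      linear_combination (norm := abel) hz'.symm

end Groth.Agent.SigmaLin
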