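import Groth.Agent.SigmaLin.Frob
import Groth.Agent.SigmaLin.Local
import Groth.Prelude.Def_WittGrp

set_option autoImplicit false
universe u v

namespace Groth.Agent.SigmaLin

open Polynomial

variable (p : ℕ) [hp : Fact p.Prime]

theorem hypSol_frob (k : Type u) [Field k] [CharP k p] [IsAlgClosed k] : HypSol (frobenius k p) := by
  classical
  intro n b hb
  let c : Fin (n + 1) → k := fun i => b (Fin.rev i) ^ p ^ (i : ℕ)
  obtain ⟨j, hj⟩ : ∃ j, c j ≠ 0 := by
    by_contra h
    push Not at h
    exact hb (funext fun i => by simpa [c, hp.out.ne_zero] using h (Fin.rev i))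
  have h1 : 1 < p := hp.out.one_lt
  let e : Fin (n + 1) → ℕ := fun i => p ^ ((i : ℕ) + 1) - 1
  have he : ∀ i, 0 < e i := fun i => by
    have := Nat.one_lt_pow (show (i : ℕ) + 1 ≠ 0 by omega) h1
    simp only [e]; omega
  let q : k[X] := (∑ i, C (c i) * X ^ e i) - 1
  have hq : q.coeff (e j) = c j := by
    have hinj : ∀ i, e i = e j → i = j := fun i hi => by
      have := Nat.one_le_pow ((i : ℕ) + 1) p (by omega)
      have := Nat.one_le_pow ((j : ℕ) + 1) p (by omega)
      have h2 : p ^ ((i : ℕ) + 1) = p ^ ((j : ℕ) + 1) := by simp only [e] at hi; omega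
      exact Fin.ext (Nat.succ_injective (Nat.pow_right_injective h1 h2))
    simp only [q, coeff_sub, finsetSum_coeff, coeff_C_mul, coeff_X_pow, coeff_one]
    rw [if_neg (he j).ne', sub_zero, Finset.sum_eq_single j]
    · simp
    · intro i _ hi; rw [if_neg (fun h => hi (hinj i h.symm)), mul_zero]
    · simp
  have hdeg : q.degree ≠ 0 := fun h => hj (by
    rw [← hq]
    exact coeff_eq_zero_of_degree_lt (by rw [h]; exact_mod_cast he j))
  obtain ⟨x, hx⟩ := IsAlgClosed.exists_root q hdeg
  simp only [IsRoot.def, q, eval_sub, eval_finsetSum, eval_mul, eval_C, eval_pow, eval_X, eval_one, sub_eq_zero] at hx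
  refine ⟨x, fun h => ?_, ?_⟩
  · subst h
    simp [zero_pow, (he _).ne'] at hx
  conv_lhs => rw [← mul_one x, ← hx, Finset.mul_sum]
  refine Finset.sum_congr rfl fun i _ => ?_
  rw [iterate_frobenius, iterate_frobenius]
  have : x ^ p ^ ((i : ℕ) + 1) = x ^ e i * x := by
    rw [← pow_succ]; congr 1
    have := Nat.one_le_pow ((i : ℕ) + 1) p (by omega)
    simp only [e]; omega
  rw [this]; ring

theorem hypAS_frob (k : Type u) [Field k] [CharP k p] [IsAlgClosed k] : HypAS (frobenius k p) := by
  intro c
  have hdeg : (X ^ p - X + C c : k[X]).degree ≠ 0 := by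
    intro h
    have h' := coeff_eq_zero_of_degree_lt (p := (X ^ p - X + C c : k[X])) (n := p)
      (by rw [h]; exact_mod_cast hp.out.pos)
    simp [coeff_X, coeff_C, hp.out.ne_zero, hp.out.one_lt.ne] at h'
  obtain ⟨z, hz⟩ := IsAlgClosed.exists_root _ hdeg
  exact ⟨z, by simpa [frobenius_def] using hz⟩

/-- the two allowed twists, stated on the residue field -/
structure TruncData (k : Type u) [Field k] [CharP k p] [IsAlgClosed k] (n : ℕ)
    (σ : TruncatedWittVector p n k →+* TruncatedWittVector p n k) : Prop where
  main : ∀ (M : Type v) [AddCommGroup M] [Module (TruncatedWittVector p n k) M]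
    [Module.Finite (TruncatedWittVector p n k) M] (T : M →ₛₗ[σ] M),
    Function.Surjective (fun m : M => m - T m) ∧ {m : M | T m = m}.Finite

theorem truncData (k : Type u) [Field k] [CharP k p] [IsAlgClosed k] (n : ℕ)
    (σ : TruncatedWittVector p n k →+* TruncatedWittVector p n k)
    (hσ : σ = WittGrp.truncMap p n (frobenius k p) ∨
      σ = WittGrp.truncMap p n (frobeniusEquiv k p).symm.toRingHom) : TruncData.{u, v} p k n σ := by
  classical
  constructor
  intro M _ _ _ T
  rcases Nat.eq_zero_or_pos n with rfl | hn
  · have : Subsingleton (TruncatedWittVector p 0 k) := ⟨fun a b => TruncatedWittVector.ext fun i => i.elim0⟩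
    have : Subsingleton M := Module.subsingleton (TruncatedWittVector p 0 k) M
    exact ⟨fun m => ⟨m, Subsingleton.elim _ _⟩, Set.toFinite _⟩
  let W := WittVector p k
  let R := TruncatedWittVector p n k
  let tr : W →+* R := WittVector.truncate n
  have htr : Function.Surjective tr := WittVector.truncate_surjective p n k
  have : Nontrivial R := ⟨tr 0, tr 1, fun h => by
    rw [map_zero] at h
    have := (WittVector.mem_ker_truncate n (1 : W)).1 h.symm 0 hn
    rw [WittVector.one_coeff_zero] at this
    exact one_ne_zero this⟩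
  have : IsLocalRing R := IsLocalRing.of_surjective' tr htr
  have hloc : IsLocalHom tr := IsLocalHom.of_surjective tr htr
  have hmax : IsLocalRing.maximalIdeal R = Ideal.span {(p : R)} := by
    have h1 : IsLocalRing.maximalIdeal W = Ideal.span {(p : W)} :=
      (WittVector.irreducible p (k := k)).maximalIdeal_eq
    have h2 : Ideal.map tr (IsLocalRing.maximalIdeal W) = IsLocalRing.maximalIdeal R := by
      refine IsLocalRing.eq_maximalIdeal ((Ideal.map_eq_top_or_isMaximal_of_surjective tr htr (IsLocalRing.maximalIdeal.isMaximal W)).resolve_left ?_)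
      refine fun h => (IsLocalRing.maximalIdeal.isMaximal R).ne_top (top_le_iff.1 ?_)
      rw [← h, Ideal.map_le_iff_le_comap]
      exact fun x hx => map_nonunit tr x hx
    rw [← h2, h1, Ideal.map_span, Set.image_singleton, map_natCast]
  have hpn : (p : R) ^ n = 0 := by
    rw [← map_natCast tr, ← map_pow, ← RingHom.mem_ker]
    exact (WittVector.mem_ker_truncate n _).2 fun i hi => WittVector.coeff_p_pow_eq_zero (R := k) (p := p) hi.ne
  let F := IsLocalRing.ResidueField R
  let c0 : R →+* k := (RingHom.liftOfSurjective tr htr) ⟨(WittVector.constantCoeff : W →+* k),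
    fun x hx => (WittVector.mem_ker_truncate n x).1 hx 0 hn⟩
  have hc0 : ∀ X : W, c0 (tr X) = X.coeff 0 := fun X => RingHom.liftOfRightInverse_comp_apply _ _ _ _ X
  have hc0s : Function.Surjective c0 := fun a => ⟨tr (WittVector.teichmuller p a), by simp [hc0, WittVector.teichmuller_coeff_zero]⟩
  have hker : RingHom.ker c0 = IsLocalRing.maximalIdeal R :=
    IsLocalRing.eq_maximalIdeal (RingHom.ker_isMaximal_of_surjective c0 hc0s)
  let e : F ≃+* k := (Ideal.quotEquivOfEq hker.symm).trans (RingHom.quotientKerEquivOfSurjective hc0s)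
  have he : ∀ r, e (IsLocalRing.residue R r) = c0 r := fun r => by
    show RingHom.quotientKerEquivOfSurjective hc0s (Ideal.quotEquivOfEq hker.symm (Ideal.Quotient.mk _ r)) = c0 r
    rw [Ideal.quotEquivOfEq_mk]
    rfl
  have : CharP F p := charP_of_injective_ringHom (f := e.symm.toRingHom) e.symm.injective p
  have : IsAlgClosed F := IsAlgClosed.of_ringEquiv k F e.symm
  have hfix : ∀ x : F, x ^ p = x → ∃ r : R, σ r = r ∧ IsLocalRing.residue R r = x := by
    intro x hx
    obtain ⟨m, hm⟩ : ∃ m : ℕ, (m : F) = x := by
      letI : Algebra (ZMod p) F := ZMod.algebra F p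
      by_contra hcon
      push Not at hcon
      have hq : ((Finset.range p).image (fun m : ℕ => (m : F))).card = p := by
        rw [Finset.card_image_of_injOn, Finset.card_range]
        intro a ha b hb hab
        have := (CharP.natCast_eq_natCast F p).1 hab
        simp only [Finset.coe_range, Set.mem_Iio] at ha hb
        rwa [Nat.ModEq, Nat.mod_eq_of_lt ha, Nat.mod_eq_of_lt hb] at this
      let q : F[X] := X ^ p - X
      have hq0 : q ≠ 0 := fun h => by
        have := congrArg (fun f => f.coeff p) h
        simp [q, coeff_X, hp.out.one_lt.ne] at this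
      have hsub : insert x ((Finset.range p).image (fun m : ℕ => (m : F))) ⊆ q.roots.toFinset := by
        intro y hy
        rw [Multiset.mem_toFinset, mem_roots hq0]
        simp only [IsRoot.def, q, eval_sub, eval_pow, eval_X, sub_eq_zero]
        rcases Finset.mem_insert.1 hy with rfl | hy
        · exact hx
        · obtain ⟨m, -, rfl⟩ := Finset.mem_image.1 hy
          rw [← frobenius_def, map_natCast]
      have h2 := Finset.card_le_card hsub
      rw [Finset.card_insert_of_notMem (by simpa using fun m _ => hcon m), hq] at h2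
      have h3 := (Multiset.toFinset_card_le _).trans (card_roots' q)
      have h4 : q.natDegree ≤ p := by
        refine (natDegree_sub_le _ _).trans ?_
        simp [hp.out.one_le]
      omega
    exact ⟨m, map_natCast σ m, by rw [map_natCast, hm]⟩
  have hσc : ∀ (f : k →+* k), σ = WittGrp.truncMap p n f → ∀ r : R, c0 (σ r) = f (c0 r) := fun f hf r => by
    obtain ⟨X, rfl⟩ := htr r
    rw [hf, show WittGrp.truncMap p n f (tr X) = tr (WittVector.map f X) from WittGrp.truncMap_truncate _ _ _ X,
      hc0, hc0, WittVector.map_coeff]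
  have hk : {a : k | a ^ p = a}.Finite := by
    refine (Polynomial.finite_setOf_isRoot (p := (X ^ p - X : k[X])) fun h => ?_).subset ?_
    · have := congrArg (fun f => f.coeff p) h
      simp [coeff_X, hp.out.one_lt.ne] at this
    · intro a ha; simp [IsRoot.def, sub_eq_zero, show a ^ p = a from ha]
  rcases hσ with hσ | hσ
  · have hσc := hσc _ hσ
    have hres : ∀ r : R, (frobenius F p) (IsLocalRing.residue R r) = IsLocalRing.residue R (σ r) := fun r => by
      apply e.injective
      rw [frobenius_def, map_pow, he, he, hσc, frobenius_def]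
    have hfin : {r : R | σ r = r}.Finite := by
      refine (((Set.Finite.pi' (fun _ : Fin n => hk))).preimage (f := fun (r : R) i => r.coeff i)
        (fun a _ b _ h => TruncatedWittVector.ext (congrFun h))).subset fun r hr i => ?_
      have h := congrArg (fun z : R => z.coeff i) (show σ r = r from hr)
      rw [hσ] at h
      simpa [WittGrp.coeff_truncMap, frobenius_def] using h
    refine ⟨surjective_sub_local hmax n hpn _ hres (surjective_frobenius F p) (hypSol_frob p F) (hypAS_frob p F) T, ?_⟩
    obtain ⟨s, -, hs⟩ := exists_fixed_generators hmax n hpn _ hres (surjective_frobenius F p) (hypSol_frob p F)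
      (hypAS_frob p F) T (fun x hx => hfix x hx)
    refine ((Set.Finite.pi' (fun _ : s => hfin)).image fun d => ∑ x : s, d x • (x : M)).subset fun m hm => ?_
    obtain ⟨c, hc, rfl⟩ := hs m hm
    exact ⟨fun x => c x, fun x => hc x x.2, Finset.sum_coe_sort s fun x => c x • x⟩
  · have hσc := hσc _ hσ
    have hres : ∀ r : R, (frobeniusEquiv F p).symm.toRingHom (IsLocalRing.residue R r) = IsLocalRing.residue R (σ r) := fun r => by
      show (frobeniusEquiv F p).symm _ = _
      rw [RingEquiv.symm_apply_eq, frobeniusEquiv_def]
      apply e.injective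
      rw [map_pow, he, he, hσc]
      exact (frobeniusEquiv_symm_pow_p k p (c0 r)).symm
    have hfin : {r : R | σ r = r}.Finite := by
      refine (((Set.Finite.pi' (fun _ : Fin n => hk))).preimage (f := fun (r : R) i => r.coeff i)
        (fun a _ b _ h => TruncatedWittVector.ext (congrFun h))).subset fun r hr i => ?_
      have h := congrArg (fun z : R => z.coeff i) (show σ r = r from hr)
      rw [hσ] at h
      simp only [WittGrp.coeff_truncMap] at h
      show r.coeff i ^ p = r.coeff i
      conv_lhs => rw [← h]
      exact frobeniusEquiv_symm_pow_p k p _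
    refine ⟨surjective_sub_local hmax n hpn _ hres (RingEquiv.surjective _) (hypSol_frobInv p F) (hypAS_frobInv p F) T, ?_⟩
    obtain ⟨s, -, hs⟩ := exists_fixed_generators hmax n hpn _ hres (RingEquiv.surjective _) (hypSol_frobInv p F)
      (hypAS_frobInv p F) T (fun x hx => hfix x (by
        conv_lhs => rw [← hx]
        exact frobeniusEquiv_symm_pow_p F p x))
    refine ((Set.Finite.pi' (fun _ : s => hfin)).image fun d => ∑ x : s, d x • (x : M)).subset fun m hm => ?_
    obtain ⟨c, hc, rfl⟩ := hs m hm
    exact ⟨fun x => c x, fun x => hc x x.2, Finset.sum_coe_sort s fun x => c x • x⟩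

end Groth.Agent.SigmaLin
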