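import Mathlib

set_option autoImplicit false
universe u v

namespace Groth.Agent.SigmaLin

variable {k : Type u} [Field k] {σ : k →+* k} {V : Type v} [AddCommGroup V] [Module k V]

/-- the span of the image of the `n`-th iterate -/
def imSpan (T : V →ₛₗ[σ] V) (n : ℕ) : Submodule k V := Submodule.span k (Set.range ((⇑T)^[n]))

/-- the stable part -/
def ssPart (T : V →ₛₗ[σ] V) : Submodule k V := ⨅ n : ℕ, Submodule.span k (Set.range ((⇑T)^[n]))

variable (T : V →ₛₗ[σ] V)

theorem imSpan_zero : imSpan T 0 = ⊤ := by simp [imSpan]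

theorem map_mem_imSpan {n : ℕ} {x : V} (hx : x ∈ imSpan T n) : T x ∈ imSpan T (n + 1) := by
  refine Submodule.span_le (p := (imSpan T (n + 1)).comap T).2 ?_ hx
  rintro _ ⟨y, rfl⟩
  exact Submodule.subset_span ⟨y, Function.iterate_succ_apply' _ _ _⟩

theorem imSpan_succ (n : ℕ) : imSpan T (n + 1) = Submodule.span k (T '' (imSpan T n)) := by
  refine le_antisymm (Submodule.span_mono ?_) (Submodule.span_le.2 ?_)
  · rintro _ ⟨y, rfl⟩
    exact ⟨(⇑T)^[n] y, Submodule.subset_span ⟨y, rfl⟩, (Function.iterate_succ_apply' _ _ _).symm⟩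
  · rintro _ ⟨x, hx, rfl⟩; exact map_mem_imSpan T hx

theorem imSpan_antitone : Antitone (imSpan T) := antitone_nat_of_succ_le fun n =>
  Submodule.span_mono (by rintro _ ⟨y, rfl⟩; exact ⟨T y, (Function.iterate_succ_apply _ _ _).symm⟩)

theorem exists_imSpan_eq_ssPart [FiniteDimensional k V] :
    ∃ N, ∀ n, N ≤ n → imSpan T n = ssPart T := by
  obtain ⟨N, hN⟩ : ∃ N, ∀ n, N ≤ n → imSpan T N = imSpan T n := by
    obtain ⟨_, ⟨N, rfl⟩, hmin⟩ := (wellFounded_lt (α := Submodule k V)).has_min
      (Set.range (imSpan T)) (Set.range_nonempty _)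
    exact ⟨N, fun n hn => (eq_of_le_of_not_lt (imSpan_antitone T hn) (hmin _ ⟨n, rfl⟩)).symm⟩
  have : ssPart T = imSpan T N := le_antisymm (iInf_le _ _) (le_iInf fun n => by
    rcases le_total n N with h | h
    · exact imSpan_antitone T h
    · exact (hN n h).le)
  exact ⟨N, fun n hn => by rw [this, ← hN n hn]⟩

theorem map_mem_ssPart {x : V} (hx : x ∈ ssPart T) : T x ∈ ssPart T := by
  rw [ssPart, Submodule.mem_iInf] at hx ⊢
  intro n
  cases n with
  | zero => simp
  | succ n => exact map_mem_imSpan T (hx n)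

theorem iterate_mem_ssPart {x : V} (hx : x ∈ ssPart T) (n : ℕ) : (⇑T)^[n] x ∈ ssPart T := by
  induction n with
  | zero => exact hx
  | succ n ih => rw [Function.iterate_succ_apply']; exact map_mem_ssPart T ih

/-- restriction to a stable subspace -/
def restrict (U : Submodule k V) (h : ∀ x ∈ U, T x ∈ U) : U →ₛₗ[σ] U where
  toFun x := ⟨T x, h x x.2⟩
  map_add' x y := Subtype.ext (map_add T (x : V) y)
  map_smul' c x := Subtype.ext (map_smulₛₗ T c (x : V))

theorem span_range_restrict_ssPart [FiniteDimensional k V] :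
    Submodule.span k (Set.range (restrict T (ssPart T) fun _ => map_mem_ssPart T)) = ⊤ := by
  obtain ⟨N, hN⟩ := exists_imSpan_eq_ssPart T
  rw [← top_le_iff]
  intro x _
  have hx : (x : V) ∈ Submodule.span k (T '' (ssPart T : Set V)) := by
    have := (imSpan_succ T N).symm
    rw [hN N le_rfl, hN (N + 1) (by omega)] at this
    rw [this]; exact x.2
  have : T '' (ssPart T : Set V) =
      (ssPart T).subtype '' Set.range (restrict T (ssPart T) fun _ => map_mem_ssPart T) := by
    ext y
    constructor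
    · rintro ⟨z, hz, rfl⟩; exact ⟨_, ⟨⟨z, hz⟩, rfl⟩, rfl⟩
    · rintro ⟨_, ⟨z, rfl⟩, rfl⟩; exact ⟨z, z.2, rfl⟩
  rw [this, Submodule.span_image] at hx
  obtain ⟨y, hy, hyx⟩ := hx
  rwa [Subtype.ext hyx] at hy

theorem injective_of_span_range_eq_top [FiniteDimensional k V]
    (h : Submodule.span k (Set.range T) = ⊤) : Function.Injective T := by
  let b := Module.finBasis k V
  have hT : ∀ v, T v = ∑ i, σ (b.repr v i) • T (b i) := fun v => by
    conv_lhs => rw [← b.sum_repr v]
    simp only [map_sum, map_smulₛₗ]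
  have hs : Submodule.span k (Set.range fun i => T (b i)) = ⊤ := by
    rw [← top_le_iff, ← h, Submodule.span_le]
    rintro _ ⟨v, rfl⟩
    rw [hT]
    exact Submodule.sum_mem _ fun i _ => Submodule.smul_mem _ _ (Submodule.subset_span (Set.mem_range_self i))
  have hli := linearIndependent_of_top_le_span_of_card_eq_finrank hs.ge (by simp)
  rw [injective_iff_map_eq_zero]
  intro v hv
  rw [hT] at hv
  have h0 := Fintype.linearIndependent_iff.1 hli _ hv
  rw [← b.sum_repr v]
  exact Finset.sum_eq_zero fun i _ => by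
    rw [σ.injective (show σ (b.repr v i) = σ 0 by rw [h0 i, map_zero]), zero_smul]

theorem injOn_ssPart [FiniteDimensional k V] {x : V} (hx : x ∈ ssPart T) (h : T x = 0) : x = 0 := by
  have := injective_of_span_range_eq_top _ (span_range_restrict_ssPart T)
    (a₁ := ⟨x, hx⟩) (a₂ := 0) (by rw [map_zero]; exact Subtype.ext h)
  exact congrArg Subtype.val this

theorem eq_zero_of_iterate_eq_zero [FiniteDimensional k V] {x : V} (hx : x ∈ ssPart T) :
    ∀ {n : ℕ}, (⇑T)^[n] x = 0 → x = 0
  | 0, h => h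
  | n + 1, h => by
    rw [Function.iterate_succ_apply'] at h
    exact eq_zero_of_iterate_eq_zero hx (injOn_ssPart T (iterate_mem_ssPart T hx n) h)

theorem iterate_zero' (n : ℕ) : (⇑T)^[n] (0 : V) = 0 := by
  induction n with
  | zero => rfl
  | succ n ih => rw [Function.iterate_succ_apply', ih, map_zero]

theorem iterate_add' (n : ℕ) (a b : V) : (⇑T)^[n] (a + b) = (⇑T)^[n] a + (⇑T)^[n] b := by
  induction n with
  | zero => rfl
  | succ n ih => simp only [Function.iterate_succ_apply', ih, map_add]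

theorem iterate_sub' (n : ℕ) (a b : V) : (⇑T)^[n] (a - b) = (⇑T)^[n] a - (⇑T)^[n] b := by
  induction n with
  | zero => rfl
  | succ n ih => simp only [Function.iterate_succ_apply', ih, map_sub]

theorem iterate_smul' (n : ℕ) (c : k) (a : V) : (⇑T)^[n] (c • a) = (⇑σ)^[n] c • (⇑T)^[n] a := by
  induction n with
  | zero => rfl
  | succ n ih => simp only [Function.iterate_succ_apply', ih, map_smulₛₗ]

/-- the nilpotent part -/
def nilPart : Submodule k V where
  carrier := {v | ∃ n : ℕ, (⇑T)^[n] v = 0}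
  zero_mem' := ⟨0, rfl⟩
  add_mem' := by
    rintro a b ⟨n, hn⟩ ⟨m, hm⟩
    refine ⟨n + m, ?_⟩
    have h1 : (⇑T)^[n + m] a = 0 := by rw [add_comm, Function.iterate_add_apply, hn, iterate_zero']
    have h2 : (⇑T)^[n + m] b = 0 := by rw [Function.iterate_add_apply, hm, iterate_zero']
    rw [iterate_add', h1, h2, add_zero]
  smul_mem' := by
    rintro c a ⟨n, hn⟩
    exact ⟨n, by rw [iterate_smul', hn, smul_zero]⟩

theorem surjOn_ssPart [FiniteDimensional k V] (hσ : Function.Surjective σ) {x : V} (hx : x ∈ ssPart T) :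
    ∃ y ∈ ssPart T, T y = x := by
  have : RingHomSurjective σ := ⟨hσ⟩
  have h : (⟨x, hx⟩ : ssPart T) ∈ Submodule.span k (Set.range (restrict T (ssPart T) fun _ => map_mem_ssPart T)) := by
    rw [span_range_restrict_ssPart]; trivial
  rw [← LinearMap.coe_range, Submodule.span_eq] at h
  obtain ⟨y, hy⟩ := h
  exact ⟨y, y.2, congrArg Subtype.val hy⟩

theorem isCompl_nilPart [FiniteDimensional k V] (hσ : Function.Surjective σ) :
    IsCompl (nilPart T) (ssPart T) ∧ ∃ N : ℕ, ∀ v ∈ nilPart T, (⇑T)^[N] v = 0 := by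
  obtain ⟨N, hN⟩ := exists_imSpan_eq_ssPart T
  have hsur : ∀ n, ∀ x ∈ ssPart T, ∃ y ∈ ssPart T, (⇑T)^[n] y = x := by
    intro n
    induction n with
    | zero => exact fun x hx => ⟨x, hx, rfl⟩
    | succ n ih =>
      intro x hx
      obtain ⟨y, hy, rfl⟩ := ih x hx
      obtain ⟨z, hz, rfl⟩ := surjOn_ssPart T hσ hy
      exact ⟨z, hz, Function.iterate_succ_apply _ _ _⟩
  have hT : ∀ v, (⇑T)^[N] v ∈ ssPart T := fun v => by rw [← hN N le_rfl]; exact Submodule.subset_span ⟨v, rfl⟩
  refine ⟨⟨Submodule.disjoint_def.2 fun x ⟨n, hn⟩ hx => eq_zero_of_iterate_eq_zero T hx hn, ?_⟩, N, ?_⟩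
  · rw [codisjoint_iff, eq_top_iff]
    intro v _
    obtain ⟨y, hy, hyv⟩ := hsur N _ (hT v)
    exact Submodule.mem_sup.2 ⟨v - y, ⟨N, by rw [iterate_sub', hyv, sub_self]⟩, y, hy, sub_add_cancel v y⟩
  · rintro v ⟨n, hn⟩
    refine eq_zero_of_iterate_eq_zero T (hT v) (n := n) ?_
    rw [← Function.iterate_add_apply, add_comm, Function.iterate_add_apply, hn, iterate_zero']

/-- hypothesis: every equation `x = ∑ σ^{i+1}(x) σ^i(b_{n-i})` has a nonzero solution -/
def HypSol (σ : k →+* k) : Prop :=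
  ∀ (n : ℕ) (b : Fin (n + 1) → k), b ≠ 0 →
    ∃ x : k, x ≠ 0 ∧ x = ∑ i : Fin (n + 1), (⇑σ)^[i.val + 1] x * (⇑σ)^[i.val] (b (Fin.rev i))

theorem exists_fixed_in_orbit [FiniteDimensional k V] (h2 : HypSol σ) (e : V)
    (he : ∀ m : ℕ, (⇑T)^[m] e ≠ 0) :
    ∃ v ∈ Submodule.span k (Set.range (fun m : ℕ => (⇑T)^[m] e)), v ≠ 0 ∧ T v = v := by
  classical
  let E : ℕ → V := fun i => (⇑T)^[i] e
  have hex : ∃ n, ¬ LinearIndependent k (fun i : Fin (n + 2) => E i) :=
    ⟨Module.finrank k V, fun h => by have := h.fintype_card_le_finrank; simp at this⟩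
  obtain ⟨n, hn, hmin⟩ : ∃ n, ¬ LinearIndependent k (fun i : Fin (n + 2) => E i) ∧
      LinearIndependent k (fun i : Fin (n + 1) => E i) := by
    refine ⟨Nat.find hex, Nat.find_spec hex, ?_⟩
    cases h : Nat.find hex with
    | zero => exact (LinearIndependent.of_subsingleton (R := k) (v := fun i : Fin 1 => E i) (0 : Fin 1) (by simpa [E] using he 0))
    | succ m => exact not_not.1 (Nat.find_min hex (by omega : m < Nat.find hex))
  rw [linearIndependent_finSucc'] at hn
  push Not at hn
  have hm := hn hmin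
  obtain ⟨b, hb⟩ := Submodule.mem_span_range_iff_exists_fun k |>.1 hm
  have hbne : b ≠ 0 := fun h0 => he (n + 1) (by simpa [h0, E] using hb.symm)
  obtain ⟨y, hy0, hy⟩ := h2 n b hbne
  let b' : ℕ → k := fun j => if h : j < n + 1 then b ⟨j, h⟩ else 0
  let x : ℕ → k := fun m => Nat.rec (σ y * b' 0) (fun m z => σ z + σ y * b' (m + 1)) m
  have hx : ∀ m, x m = ∑ i ∈ Finset.range (m + 1), (⇑σ)^[i + 1] y * (⇑σ)^[i] (b' (m - i)) := by
    intro m
    induction m with
    | zero => simp [x]
    | succ m ih =>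
      rw [show x (m + 1) = σ (x m) + σ y * b' (m + 1) from rfl, ih, map_sum,
        Finset.sum_range_succ' _ (m + 1)]
      simp [← Function.iterate_succ_apply']
  have hxn : x n = y := by
    refine ((hx n).trans ?_).trans hy.symm
    rw [← Fin.sum_univ_eq_sum_range (fun i => (⇑σ)^[i + 1] y * (⇑σ)^[i] (b' (n - i)))]
    refine Finset.sum_congr rfl fun i _ => ?_
    congr 2
    simp only [b', dif_pos (show n - (i : ℕ) < n + 1 by omega)]
    congr 1
    ext; simp [Fin.rev]
  refine ⟨∑ i : Fin (n + 1), x i • E i,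
    Submodule.sum_mem _ fun i _ => Submodule.smul_mem _ _ (Submodule.subset_span ⟨i, rfl⟩), fun h0 => ?_, ?_⟩
  · have := Fintype.linearIndependent_iff.1 hmin _ h0 (Fin.last n)
    exact hy0 (by simpa [hxn] using this)
  · rw [map_sum]
    simp only [map_smulₛₗ]
    have hE : ∀ i : ℕ, T (E i) = E (i + 1) := fun i => (Function.iterate_succ_apply' _ _ _).symm
    simp only [hE]
    rw [Fin.sum_univ_eq_sum_range (fun i => σ (x i) • E (i + 1)),
      Fin.sum_univ_eq_sum_range (fun i => x i • E i), Finset.sum_range_succ,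
      Finset.sum_range_succ' (fun i => x i • E i)]
    have hEn : E (n + 1) = ∑ i ∈ Finset.range (n + 1), b' i • E i := by
      rw [← Fin.sum_univ_eq_sum_range (fun i => b' i • E i), show E (n + 1) = E ((Fin.last (n+1) : Fin (n+2)) : ℕ) from rfl]
      refine hb.symm.trans (Finset.sum_congr rfl fun i _ => ?_)
      simp only [b', dif_pos i.is_lt]; rfl
    rw [hEn, hxn, Finset.smul_sum, Finset.sum_range_succ' _ n]
    simp only [x, smul_smul, add_smul, Finset.sum_add_distrib]
    abel

variable (σ) in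
/-- hypothesis: the map `y ↦ y - σ y` is surjective -/
def HypAS : Prop := ∀ c : k, ∃ y : k, σ y - y + c = 0

theorem exists_fixed_basis [FiniteDimensional k V] (h1 : Submodule.span k (Set.range T) = ⊤)
    (h2 : HypSol σ) (h3 : HypAS σ) :
    (∃ b : Module.Basis (Fin (Module.finrank k V)) k V, ∀ i, T (b i) = b i) ∧
    Function.Surjective (fun v : V => v - T v) := by
  classical
  let F : Set V := {v | T v = v}
  let U := Submodule.span k F
  have hAS : ∀ u ∈ U, ∃ w ∈ U, w - T w = u := by
    intro u hu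
    induction hu using Submodule.span_induction with
    | mem x hx =>
      obtain ⟨y, hy⟩ := h3 1
      refine ⟨y • x, Submodule.smul_mem _ _ (Submodule.subset_span hx), ?_⟩
      rw [map_smulₛₗ, show T x = x from hx, ← sub_smul, show y - σ y = 1 by linear_combination (-1:k) * hy, one_smul]
    | zero => exact ⟨0, zero_mem _, by simp⟩
    | add x y _ _ hx hy =>
      obtain ⟨a, ha, ha'⟩ := hx
      obtain ⟨b, hb, hb'⟩ := hy
      exact ⟨a + b, add_mem ha hb, by rw [map_add, ← ha', ← hb']; abel⟩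
    | smul c x hxU hx =>
      clear hx
      induction hxU using Submodule.span_induction generalizing c with
      | mem x hx =>
        obtain ⟨y, hy⟩ := h3 c
        refine ⟨y • x, Submodule.smul_mem _ _ (Submodule.subset_span hx), ?_⟩
        rw [map_smulₛₗ, show T x = x from hx, ← sub_smul, show y - σ y = c by linear_combination (-1:k) * hy]
      | zero => exact ⟨0, zero_mem _, by simp⟩
      | add x y _ _ hx hy =>
        obtain ⟨a, ha, ha'⟩ := hx c
        obtain ⟨b, hb, hb'⟩ := hy c
        exact ⟨a + b, add_mem ha hb, by rw [map_add, smul_add, ← ha', ← hb']; abel⟩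
      | smul d x _ hx =>
        rw [smul_smul]; exact hx _
  have hUT : U ≤ U.comap T := Submodule.span_le.2 fun x hx => by
    show T x ∈ U
    rw [show T x = x from hx]; exact Submodule.subset_span hx
  have htop : U = ⊤ := by
    by_contra hne
    have hnt : Nontrivial (V ⧸ U) := Submodule.Quotient.nontrivial_iff.2 hne
    let Tq := Submodule.mapQ U U T hUT
    have hq : Submodule.span k (Set.range Tq) = ⊤ := by
      have := congrArg (Submodule.map U.mkQ) h1
      rw [Submodule.map_span, Submodule.map_top, Submodule.range_mkQ, ← Set.range_comp] at this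
      rw [← top_le_iff, ← this]
      refine Submodule.span_mono ?_
      rintro _ ⟨v, rfl⟩; exact ⟨U.mkQ v, rfl⟩
    have hinj := injective_of_span_range_eq_top Tq hq
    obtain ⟨e, he⟩ := exists_ne (0 : V ⧸ U)
    obtain ⟨q, -, hq0, hqT⟩ := exists_fixed_in_orbit Tq h2 e fun m hm => he (by
      refine (Function.Injective.iterate hinj m) ?_
      rw [hm, iterate_zero'])
    obtain ⟨w, rfl⟩ := U.mkQ_surjective q
    have hu : T w - w ∈ U := (Submodule.Quotient.eq U).1 hqT
    obtain ⟨a, ha, ha'⟩ := hAS _ hu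
    have hfix : w + a ∈ U := Submodule.subset_span (show T (w + a) = w + a by
      rw [map_add]; linear_combination (norm := abel) ha'.symm)
    exact hq0 ((Submodule.Quotient.mk_eq_zero U).2 (by simpa using sub_mem hfix ha))
  refine ⟨?_, fun u => ?_⟩
  · let b0 := Module.Basis.ofSpan (s := F) htop.ge
    have : Finite (↥((linearIndepOn_empty k id).extend (Set.empty_subset F))) :=
      Module.Finite.finite_basis b0
    let b := b0.reindex (Finite.equivFinOfCardEq (by rw [← Module.finrank_eq_nat_card_basis b0]))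
    exact ⟨b, fun i => Module.Basis.ofSpan_subset htop.ge
      ⟨_, by rw [Module.Basis.reindex_apply]⟩⟩
  · obtain ⟨w, -, hw⟩ := hAS u (htop ▸ Submodule.mem_top)
    exact ⟨w, hw⟩

theorem surjective_sub_and_fixed_basis [FiniteDimensional k V] (hσ : Function.Surjective σ)
    (h2 : HypSol σ) (h3 : HypAS σ) :
    Function.Surjective (fun v : V => v - T v) ∧
    ∃ b : Module.Basis (Fin (Module.finrank k ↥(ssPart T))) k ↥(ssPart T),
      ∀ i, T (b i : V) = (b i : V) := by
  obtain ⟨⟨b, hb⟩, hs⟩ := exists_fixed_basis (restrict T (ssPart T) fun _ => map_mem_ssPart T)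
    (span_range_restrict_ssPart T) h2 h3
  refine ⟨fun v => ?_, b, fun i => congrArg Subtype.val (hb i)⟩
  obtain ⟨hc, N, hN⟩ := isCompl_nilPart T hσ
  obtain ⟨w, hw, u, hu, rfl⟩ := Submodule.mem_sup.1 (hc.sup_eq_top ▸ Submodule.mem_top (x := v))
  obtain ⟨y, hy⟩ := hs ⟨u, hu⟩
  refine ⟨(∑ i ∈ Finset.range N, (⇑T)^[i] w) + y, ?_⟩
  have hy' : (y : V) - T y = u := congrArg Subtype.val hy
  have ht : (∑ i ∈ Finset.range N, (⇑T)^[i] w) - T (∑ i ∈ Finset.range N, (⇑T)^[i] w) = w := by
    simp only [map_sum, ← Function.iterate_succ_apply', ← Finset.sum_sub_distrib,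
      Finset.sum_range_sub' (fun i => (⇑T)^[i] w), hN w hw, Function.iterate_zero, id, sub_zero]
  conv_rhs => rw [← ht, ← hy']
  simp only [map_add]; abel

end Groth.Agent.SigmaLin
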