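import Groth.Agent.SigmaLin.Basic

set_option autoImplicit false
universe u

namespace Groth.Agent.SigmaLin

open Polynomial

variable (p : ℕ) [hp : Fact p.Prime] (k : Type u) [Field k] [CharP k p] [IsAlgClosed k]

theorem iterate_frobInv_pow (x : k) (i : ℕ) :
    ((⇑((frobeniusEquiv k p).symm.toRingHom))^[i] x) ^ p ^ i = x := by
  induction i generalizing x with
  | zero => simp
  | succ i ih =>
    rw [Function.iterate_succ_apply, pow_succ, pow_mul, ih]
    exact frobeniusEquiv_symm_pow_p k p x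

theorem hypSol_frobInv : HypSol (frobeniusEquiv k p).symm.toRingHom := by
  classical
  intro n b hb
  set τ := (⇑((frobeniusEquiv k p).symm.toRingHom) : k → k)
  -- coefficients, reindexed
  let c : Fin (n + 1) → k := fun j => b j ^ p ^ ((j : ℕ) + 1)
  have hc : ∃ j, c j ≠ 0 := by
    by_contra h
    push Not at h
    exact hb (funext fun j => by simpa [c, hp.out.ne_zero] using h j)
  let j0 := Fin.find (fun j => c j ≠ 0) hc
  have hj0 : c j0 ≠ 0 := Fin.find_spec hc
  have hlt : ∀ j, j < j0 → c j = 0 := fun j hj => not_not.1 (Fin.find_min hc hj)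
  have h1 : 1 < p := hp.out.one_lt
  let q : k[X] := X ^ (p ^ (n + 1) - p ^ (j0 : ℕ)) - ∑ j, C (c j) * X ^ (p ^ (j : ℕ) - p ^ (j0 : ℕ))
  have hlt' : p ^ (j0 : ℕ) < p ^ (n + 1) := Nat.pow_lt_pow_right h1 j0.is_lt
  have hq0 : q.eval 0 = -c j0 := by
    simp only [q, eval_sub, eval_pow, eval_X, eval_finsetSum, eval_mul, eval_C]
    rw [zero_pow (by omega), zero_sub, Finset.sum_eq_single j0]
    · simp
    · intro j _ hj
      rcases lt_or_gt_of_ne hj with h | h
      · simp [hlt j h]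
      · rw [zero_pow (by have := Nat.pow_lt_pow_right h1 (show (j0:ℕ) < j from h); omega), mul_zero]
    · simp
  have hqN : q.coeff (p ^ (n + 1) - p ^ (j0 : ℕ)) = 1 := by
    simp only [q, coeff_sub, coeff_X_pow_self, finsetSum_coeff, coeff_C_mul, coeff_X_pow]
    rw [Finset.sum_eq_zero, sub_zero]
    intro j _
    have := Nat.pow_lt_pow_right h1 j.is_lt
    rw [if_neg (by omega), mul_zero]
  have hdeg : q.degree ≠ 0 := by
    intro h
    have h' := coeff_eq_zero_of_degree_lt (p := q) (n := p ^ (n + 1) - p ^ (j0 : ℕ))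
      (by rw [h]; exact_mod_cast (by omega : 0 < p ^ (n + 1) - p ^ (j0 : ℕ)))
    rw [hqN] at h'
    exact one_ne_zero h'
  obtain ⟨x, hx⟩ := IsAlgClosed.exists_root q hdeg
  have hx0 : x ≠ 0 := fun h => hj0 (neg_eq_zero.1 (by rw [← hq0]; subst h; exact hx))
  refine ⟨x, hx0, ?_⟩
  have hxq : x ^ p ^ (n + 1) = ∑ j, c j * x ^ p ^ (j : ℕ) := by
    simp only [IsRoot.def, q, eval_sub, eval_pow, eval_X, eval_finsetSum, eval_mul, eval_C, sub_eq_zero] at hx
    rw [← Nat.sub_add_cancel hlt'.le, pow_add, hx, Finset.sum_mul]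
    refine Finset.sum_congr rfl fun j _ => ?_
    rcases lt_or_ge j j0 with h | h
    · simp [hlt j h]
    · rw [mul_assoc, ← pow_add, Nat.sub_add_cancel (Nat.pow_le_pow_right h1.le h)]
  refine iterateFrobenius_inj k p (n + 1) ?_
  rw [map_sum, iterateFrobenius_def, hxq, ← Equiv.sum_comp Fin.revPerm]
  refine Finset.sum_congr rfl fun i _ => ?_
  rw [Fin.revPerm_apply, map_mul, iterateFrobenius_def, iterateFrobenius_def]
  have e1 : (τ^[(i : ℕ) + 1] x) ^ p ^ (n + 1) = x ^ p ^ (Fin.rev i : ℕ) := by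
    rw [show p ^ (n + 1) = p ^ ((i : ℕ) + 1) * p ^ (Fin.rev i : ℕ) by rw [← pow_add]; congr 1; simp [Fin.val_rev]; omega,
      pow_mul, iterate_frobInv_pow]
  have e2 : (τ^[(i : ℕ)] (b (Fin.rev i))) ^ p ^ (n + 1) = c (Fin.rev i) := by
    rw [show p ^ (n + 1) = p ^ (i : ℕ) * p ^ ((Fin.rev i : ℕ) + 1) by rw [← pow_add]; congr 1; simp [Fin.val_rev]; omega,
      pow_mul, iterate_frobInv_pow]
  rw [e1, e2, mul_comm]

theorem hypAS_frobInv : HypAS (frobeniusEquiv k p).symm.toRingHom := by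
  intro c
  have hdeg : (X - X ^ p + C c : k[X]).degree ≠ 0 := by
    intro h
    have h' := coeff_eq_zero_of_degree_lt (p := (X - X ^ p + C c : k[X])) (n := p)
      (by rw [h]; exact_mod_cast hp.out.pos)
    simp [coeff_X, coeff_C, hp.out.ne_zero, hp.out.one_lt.ne] at h'
  obtain ⟨z, hz⟩ := IsAlgClosed.exists_root _ hdeg
  refine ⟨z ^ p, ?_⟩
  have e : (frobeniusEquiv k p).symm.toRingHom (z ^ p) = z := frobeniusEquiv_symm_apply_frobenius k p z
  rw [e]
  simpa using hz

end Groth.Agent.SigmaLin
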