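import Groth.Agent.SigmaLin.Basic
import Mathlib

/-! # `q`-linear maps over a separably closed field -/

set_option autoImplicit false
universe u v

open Polynomial

noncomputable section

namespace Groth.Agent.SigmaLin.SepClosed

variable {k : Type u} [Field k] [IsSepClosed k] (p : ℕ) [Fact p.Prime] [CharP k p] (r : ℕ)
  {V : Type v} [AddCommGroup V] [Module k V]

lemma iterate_frob (i : ℕ) (x : k) : (⇑(iterateFrobenius k p r))^[i] x = x ^ (p ^ r) ^ i := by
  induction i with
  | zero => simp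
  | succ i ih => rw [Function.iterate_succ_apply', ih, iterateFrobenius_def, ← pow_mul, ← pow_succ]

lemma one_lt_q (hr : 0 < r) : 1 < p ^ r := Nat.one_lt_pow hr.ne' (Fact.out : p.Prime).one_lt

omit [IsSepClosed k] in
lemma cast_q_pow (hr : 0 < r) (i : ℕ) : (((p ^ r) ^ (i + 1) : ℕ) : k) = 0 := by
  push_cast
  rw [CharP.cast_eq_zero, zero_pow hr.ne', zero_pow (Nat.succ_ne_zero i)]

lemma hypSol (hr : 0 < r) : HypSol (iterateFrobenius k p r) := by
  classical
  intro n b hb
  let d : Fin (n + 1) → k := fun i => b (Fin.rev i) ^ (p ^ r) ^ (i : ℕ)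
  let g : k[X] := ∑ i : Fin (n + 1), C (d i) * X ^ ((p ^ r) ^ ((i : ℕ) + 1) - 1) - 1
  have hpos : ∀ i : ℕ, 1 < (p ^ r) ^ (i + 1) := fun i =>
    Nat.one_lt_pow (Nat.succ_ne_zero i) (one_lt_q p r hr)
  have hf : g * X = ∑ i : Fin (n + 1), C (d i) * X ^ ((p ^ r) ^ ((i : ℕ) + 1)) - X := by
    simp only [g, sub_mul, one_mul, Finset.sum_mul, mul_assoc, ← pow_succ]
    congr 1
    exact Finset.sum_congr rfl fun i _ => by rw [Nat.sub_add_cancel (hpos i).le]
  have hsep : g.Separable := by
    refine Separable.of_mul_left (g := X) ?_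
    rw [hf, separable_def', derivative_sub, derivative_sum, derivative_X]
    refine ⟨0, -1, ?_⟩
    rw [zero_mul, zero_add, Finset.sum_eq_zero, zero_sub]
    · ring
    · intro i _
      rw [derivative_C_mul, derivative_X_pow, cast_q_pow p r hr, map_zero, zero_mul, mul_zero]
  obtain ⟨j, hj⟩ := Function.ne_iff.mp hb
  have hdeg : g.degree ≠ 0 := by
    intro h
    have hc : g.coeff ((p ^ r) ^ ((Fin.rev j : ℕ) + 1) - 1) = d (Fin.rev j) := by
      simp only [g, coeff_sub, finsetSum_coeff, coeff_C_mul, coeff_X_pow, coeff_one]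
      rw [Finset.sum_eq_single (Fin.rev j), if_pos rfl, mul_one, if_neg, sub_zero]
      · have := hpos (Fin.rev j : ℕ); omega
      · intro i _ hi
        rw [if_neg, mul_zero]
        intro he
        have h2 := hpos (Fin.rev j : ℕ); have h3 := hpos (i : ℕ)
        have h4 : (p ^ r) ^ ((Fin.rev j : ℕ) + 1) = (p ^ r) ^ ((i : ℕ) + 1) := by omega
        exact hi (Fin.ext (by have := Nat.pow_right_injective (one_lt_q p r hr) h4; omega))
      · simp
    have h0 := coeff_eq_zero_of_degree_lt (p := g) (n := (p ^ r) ^ ((Fin.rev j : ℕ) + 1) - 1) (by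
      rw [h]; exact_mod_cast (by have := hpos (Fin.rev j : ℕ); omega : 0 < (p ^ r) ^ ((Fin.rev j : ℕ) + 1) - 1))
    rw [hc] at h0
    simp [d, (Fact.out : p.Prime).ne_zero] at h0
    exact hj h0
  obtain ⟨x, hx⟩ := IsSepClosed.exists_root g hdeg hsep
  refine ⟨x, fun h => ?_, ?_⟩
  · subst h
    simp only [IsRoot.def, g, eval_sub, eval_finsetSum, eval_mul, eval_C, eval_pow, eval_X, eval_one] at hx
    rw [Finset.sum_eq_zero fun i _ => by rw [zero_pow (by have := hpos (i : ℕ); omega), mul_zero]] at hx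
    simp at hx
  · have h := congrArg (eval x) hf
    rw [eval_mul, show g.eval x = 0 from hx, zero_mul] at h
    simp only [eval_sub, eval_finsetSum, eval_mul, eval_C, eval_pow, eval_X] at h
    refine (sub_eq_zero.mp h.symm).symm.trans (Finset.sum_congr rfl fun i _ => ?_)
    rw [iterate_frob, iterate_frob]
    exact mul_comm _ _

lemma hypAS (hr : 0 < r) : HypAS (iterateFrobenius k p r) := by
  intro c
  have hq := one_lt_q p r hr
  have hsep : (X ^ (p ^ r) - X + C c : k[X]).Separable := by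
    rw [separable_def', derivative_add, derivative_sub, derivative_X_pow, derivative_X, derivative_C]
    refine ⟨0, -1, ?_⟩
    rw [Nat.cast_pow, CharP.cast_eq_zero, zero_pow hr.ne', map_zero]
    ring
  have hdeg : (X ^ (p ^ r) - X + C c : k[X]).degree ≠ 0 := by
    intro h
    have h' := coeff_eq_zero_of_degree_lt (p := (X ^ (p ^ r) - X + C c : k[X])) (n := p ^ r)
      (by rw [h]; exact_mod_cast (by omega : 0 < p ^ r))
    simp [coeff_X, coeff_C, hq.ne, (Fact.out : p.Prime).ne_zero] at h'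
  obtain ⟨z, hz⟩ := IsSepClosed.exists_root _ hdeg hsep
  exact ⟨z, by rw [iterateFrobenius_def]; simpa using hz⟩

/-- A `q`-linear additive map as a semilinear map. -/
def mk (φ : V →+ V) (hφ : ∀ (c : k) (v : V), φ (c • v) = c ^ (p ^ r) • φ v) :
    V →ₛₗ[iterateFrobenius k p r] V where
  toFun := φ
  map_add' := map_add φ
  map_smul' c v := by rw [iterateFrobenius_def]; exact hφ c v

variable [FiniteDimensional k V] (φ : V →+ V) (hφ : ∀ (c : k) (v : V), φ (c • v) = c ^ (p ^ r) • φ v)

include hφ in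
lemma surjective_sub (hr : 0 < r) : Function.Surjective fun v : V => v - φ v := by
  intro v
  let T := mk p r φ hφ
  obtain ⟨-, hs⟩ := exists_fixed_basis (restrict T (ssPart T) fun _ => map_mem_ssPart T)
    (span_range_restrict_ssPart T) (hypSol p r hr) (hypAS p r hr)
  obtain ⟨N, hN⟩ := exists_imSpan_eq_ssPart T
  have hv : (⇑T)^[N] v ∈ ssPart T := by
    rw [← hN N le_rfl]; exact Submodule.subset_span ⟨v, rfl⟩
  obtain ⟨y, hy⟩ := hs ⟨_, hv⟩
  have hy' : (y : V) - T y = (⇑T)^[N] v := congrArg Subtype.val hy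
  refine ⟨(∑ i ∈ Finset.range N, (⇑T)^[i] v) + y, ?_⟩
  show _ - T _ = v
  have ht : (∑ i ∈ Finset.range N, (⇑T)^[i] v) - T (∑ i ∈ Finset.range N, (⇑T)^[i] v) =
      v - (⇑T)^[N] v := by
    simp only [map_sum, ← Function.iterate_succ_apply', ← Finset.sum_sub_distrib,
      Finset.sum_range_sub' (fun i => (⇑T)^[i] v), Function.iterate_zero, id]
  rw [map_add, add_sub_add_comm, ht, hy', sub_add_cancel]

include hφ in
omit [IsSepClosed k] [FiniteDimensional k V] in
lemma iterate_sum {ι : Type*} [Fintype ι] (n : ℕ) (w : ι → V) (c : ι → k) (hw : ∀ i, φ (w i) = w i) :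
    φ^[n] (∑ i, c i • w i) = ∑ i, c i ^ (p ^ r) ^ n • w i := by
  induction n with
  | zero => simp
  | succ n ih =>
    rw [Function.iterate_succ_apply', ih, map_sum]
    exact Finset.sum_congr rfl fun i _ => by rw [hφ, hw, ← pow_mul, ← pow_succ]

include hφ in
lemma coeff_fixed {ι : Type*} [Fintype ι] {W : Submodule k V} (b : Module.Basis ι k W)
    (hb : ∀ i, φ (b i : V) = (b i : V)) (n : ℕ) (w : W) (hw : φ^[n] (w : V) = (w : V)) (i : ι) :
    (b.repr w i) ^ (p ^ r) ^ n = b.repr w i := by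
  have he : (w : V) = ∑ j, b.repr w j • (b j : V) :=
    (congrArg Subtype.val (b.sum_repr w)).symm.trans (by push_cast; rfl)
  have h1 : ∑ j, (b.repr w j) ^ (p ^ r) ^ n • (b j : V) = ∑ j, b.repr w j • (b j : V) := by
    rw [← iterate_sum p r φ hφ n _ _ hb, ← he]
    exact hw
  have hli : LinearIndependent k (fun j => (b j : V)) :=
    b.linearIndependent.map' W.subtype W.ker_subtype
  exact Fintype.linearIndependent_iffₛ.1 hli _ _ h1 i

include hφ in
lemma exists_basis_top (hr : 0 < r) (hss : Submodule.span k (Set.range φ) = ⊤) :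
    ∃ b : Module.Basis (Fin (Module.finrank k V)) k V, (∀ i, φ (b i) = b i) ∧
      ∀ (n : ℕ) (v : V), φ^[n] v = v → ∀ i, (b.repr v i) ^ (p ^ r) ^ n = b.repr v i := by
  obtain ⟨⟨b, hb⟩, -⟩ := exists_fixed_basis (mk p r φ hφ) hss (hypSol p r hr) (hypAS p r hr)
  refine ⟨b, hb, fun n v hv i => ?_⟩
  have h1 : ∑ j, (b.repr v j) ^ (p ^ r) ^ n • b j = ∑ j, b.repr v j • b j := by
    rw [← iterate_sum p r φ hφ n _ _ (fun j => hb j), b.sum_repr]
    exact hv
  exact Fintype.linearIndependent_iffₛ.1 b.linearIndependent _ _ h1 i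

end Groth.Agent.SigmaLin.SepClosed
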