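import Mathlib
import Groth.Agent.SigmaLin.Basic
import Groth.Agent.SigmaLin.Witt

/-!
# Fixed vectors of `p`-semilinear endomorphisms
-/

set_option autoImplicit false
universe u v

open TensorProduct

namespace Groth.Agent.SigmaLin

variable {k : Type u} [Field k] [IsAlgClosed k] (p : ℕ) [Fact p.Prime] [CharP k p]
  {V : Type v} [AddCommGroup V] [Module k V] [FiniteDimensional k V]
  (F : V →+ V) (hF : ∀ (c : k) (v : V), F (c • v) = c ^ p • F v)

/-- an additive `p`-semilinear map as a semilinear map -/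
def ofPow : V →ₛₗ[frobenius k p] V :=
  { F with map_smul' := hF }

@[simp] theorem ofPow_apply (v : V) : ofPow p F hF v = F v := rfl

include hF in
theorem surjective_sub_id : Function.Surjective fun v => F v - v := by
  have hσ : Function.Surjective (frobenius k p) := fun c => by
    obtain ⟨z, hz⟩ := IsAlgClosed.exists_pow_nat_eq c (Fact.out : p.Prime).pos
    exact ⟨z, by simpa [frobenius_def] using hz⟩
  intro v
  obtain ⟨w, hw⟩ := (surjective_sub_and_fixed_basis (ofPow p F hF) hσ (hypSol_frob p k) (hypAS_frob p k)).1 v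
  exact ⟨-w, by rw [← hw]; simp; abel⟩

include hF in
theorem exists_fixed_family : ∃ (d : ℕ) (b : Fin d → V), LinearIndependent k b ∧ (∀ i, F (b i) = b i) ∧
    d ≤ Module.finrank k V ∧ ∃ N, ∀ v, F^[N] v ∈ Submodule.span k (Set.range b) := by
  have hσ : Function.Surjective (frobenius k p) := fun c => by
    obtain ⟨z, hz⟩ := IsAlgClosed.exists_pow_nat_eq c (Fact.out : p.Prime).pos
    exact ⟨z, by simpa [frobenius_def] using hz⟩
  let T := ofPow p F hF
  obtain ⟨b, hb⟩ := (surjective_sub_and_fixed_basis T hσ (hypSol_frob p k) (hypAS_frob p k)).2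
  obtain ⟨N, hN⟩ := exists_imSpan_eq_ssPart T
  refine ⟨_, fun i => (b i : V), b.linearIndependent.map' (ssPart T).subtype (ssPart T).ker_subtype, hb,
    Submodule.finrank_le _, N, fun v => ?_⟩
  have h1 : F^[N] v ∈ ssPart T := hN N le_rfl ▸ Submodule.subset_span ⟨v, rfl⟩
  have h2 := b.sum_repr ⟨_, h1⟩
  apply_fun Subtype.val at h2
  simp only [Submodule.coe_sum, Submodule.coe_smul] at h2
  exact (Submodule.mem_span_range_iff_exists_fun k).2 ⟨_, h2⟩

include hF in
theorem fixed_iff {d : ℕ} {b : Fin d → V} (hb : LinearIndependent k b) (hfix : ∀ i, F (b i) = b i) (c : Fin d → k) :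
    F (∑ i, c i • b i) = ∑ i, c i • b i ↔ ∀ i, c i ^ p = c i := by
  simp only [map_sum, hF, hfix]
  exact ⟨fun h i => Fintype.linearIndependent_iffₛ.1 hb _ _ h i, fun h => by simp [h]⟩

include hF in
theorem finite_fixed_and_card_le : {v : V | F v = v}.Finite ∧ Nat.card {v : V | F v = v} ≤ p ^ Module.finrank k V := by
  classical
  obtain ⟨d, b, hb, hfix, hd, N, hN⟩ := exists_fixed_family p F hF
  let R : Finset k := (Polynomial.X ^ p - Polynomial.X : Polynomial k).roots.toFinset
  have hR : ∀ c : k, c ^ p = c → c ∈ R := fun c hc => by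
    simp [R, Polynomial.mem_roots', sub_eq_zero, hc, FiniteField.X_pow_card_sub_X_ne_zero k (Fact.out : p.Prime).one_lt]
  have hsub : {v : V | F v = v} ⊆ (fun c : Fin d → R => ∑ i, (c i : k) • b i) '' Set.univ := by
    intro v (hv : F v = v)
    have : F^[N] v = v := Function.iterate_fixed hv N
    obtain ⟨c, rfl⟩ := (Submodule.mem_span_range_iff_exists_fun k).1 (this ▸ hN v)
    exact ⟨fun i => ⟨c i, hR _ ((fixed_iff p F hF hb hfix c).1 hv i)⟩, trivial, rfl⟩
  refine ⟨(Set.toFinite _).subset hsub, ?_⟩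
  calc Nat.card {v : V | F v = v} ≤ Nat.card ((fun c : Fin d → R => ∑ i, (c i : k) • b i) '' Set.univ) :=
        Nat.card_mono (Set.toFinite _) hsub
    _ ≤ Nat.card (Set.univ : Set (Fin d → R)) := Nat.card_image_le (Set.toFinite _)
    _ = R.card ^ d := by simp
    _ ≤ p ^ d := by
        gcongr
        refine (Multiset.toFinset_card_le _).trans ((Polynomial.card_roots' _).trans ?_)
        rw [FiniteField.X_pow_card_sub_X_natDegree_eq k (Fact.out : p.Prime).one_lt]
    _ ≤ p ^ Module.finrank k V := Nat.pow_le_pow_right (Fact.out : p.Prime).pos hd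

include hF in
theorem bijOn_fixed (k' : Type u) [Field k'] [Algebra k k']
    (F' : k' ⊗[k] V →+ k' ⊗[k] V) (hF' : ∀ (c : k') (v : V), F' (c ⊗ₜ[k] v) = (c ^ p) ⊗ₜ[k] F v) :
    Set.BijOn (fun v : V => (1 : k') ⊗ₜ[k] v) {v : V | F v = v} {w : k' ⊗[k] V | F' w = w} := by
  classical
  obtain ⟨d, b, hb, hfix, hd, N, hN⟩ := exists_fixed_family p F hF
  haveI : CharP k' p := charP_of_injective_algebraMap (algebraMap k k').injective p
  let B := Algebra.TensorProduct.basis k' (Module.Basis.sumExtend hb)
  have hbB : (fun i => (1 : k') ⊗ₜ[k] b i) = fun i => B (Sum.inl i) := funext fun i => by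
    simp [B, Module.Basis.sumExtend]
    rfl
  have hb' : LinearIndependent k' (fun i => (1 : k') ⊗ₜ[k] b i) := by
    rw [hbB]; exact B.linearIndependent.comp _ Sum.inl_injective
  have hF'it : ∀ (m : ℕ) (c : k') (v : V), F'^[m] (c ⊗ₜ[k] v) = (c ^ p ^ m) ⊗ₜ[k] (F^[m] v) := by
    intro m
    induction m with
    | zero => simp
    | succ m ih =>
      intro c v
      rw [Function.iterate_succ_apply', ih, hF', Function.iterate_succ_apply', pow_succ, ← pow_mul]
  have hmem : ∀ w, F'^[N] w ∈ Submodule.span k' (Set.range fun i => (1 : k') ⊗ₜ[k] b i) := by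
    intro w
    induction w using TensorProduct.induction_on with
    | zero => rw [iterate_map_zero]; exact zero_mem _
    | tmul c v =>
      rw [hF'it]
      obtain ⟨a, ha⟩ := (Submodule.mem_span_range_iff_exists_fun k).1 (hN v)
      rw [← ha, tmul_sum]
      refine Submodule.sum_mem _ fun i _ => ?_
      rw [tmul_smul]
      refine Submodule.smul_of_tower_mem _ _ ?_
      rw [show (c ^ p ^ N) ⊗ₜ[k] b i = (c ^ p ^ N) • ((1 : k') ⊗ₜ[k] b i) by rw [smul_tmul', smul_eq_mul, mul_one]]
      exact Submodule.smul_mem _ _ (Submodule.subset_span ⟨i, rfl⟩)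
    | add x y hx hy => rw [iterate_map_add]; exact add_mem hx hy
  refine ⟨fun v (hv : F v = v) => ?_, fun v _ v' _ h => ?_, fun w (hw : F' w = w) => ?_⟩
  · show F' _ = _
    rw [hF', hv, one_pow]
  · obtain ⟨l, hl⟩ := (Algebra.linearMap k k').exists_leftInverse_of_injective
      (LinearMap.ker_eq_bot.2 (algebraMap k k').injective)
    have h1 : l 1 = 1 := by simpa using DFunLike.congr_fun hl 1
    simpa [h1] using congrArg (fun z => TensorProduct.lid k V (TensorProduct.map l LinearMap.id z)) h
  · obtain ⟨c, hc⟩ := (Submodule.mem_span_range_iff_exists_fun k').1 (Function.iterate_fixed hw N ▸ hmem w)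
    have hc' : ∀ (i : Fin d), c i ^ p = c i := by
      refine Fintype.linearIndependent_iffₛ.1 hb' (fun i => c i ^ p) c ?_
      conv_rhs => rw [hc, ← hw, ← hc, map_sum]
      refine Finset.sum_congr rfl fun i _ => ?_
      rw [smul_tmul', smul_tmul', hF', hfix]
      simp
    have : ∀ i, ∃ a : k, algebraMap k k' a = c i ∧ a ^ p = a := fun i => by
      have h := (Subfield.mem_bot_iff_pow_eq_self k' p).2 (hc' i)
      have hle : (⊥ : Subfield k') ≤ (algebraMap k k').fieldRange := bot_le
      obtain ⟨a, ha⟩ := hle h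
      exact ⟨a, ha, (algebraMap k k').injective (by rw [map_pow, ha, hc' i])⟩
    choose a ha hap using this
    refine ⟨∑ i, a i • b i, (fixed_iff p F hF hb hfix a).2 hap, ?_⟩
    show (1 : k') ⊗ₜ[k] _ = w
    rw [← hc, tmul_sum]
    refine Finset.sum_congr rfl fun i _ => ?_
    rw [tmul_smul, ← algebraMap_smul k' (a i), ha]

end Groth.Agent.SigmaLin
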